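import Groth.Agent.S0406
import Groth.Agent.HenselLib.Normal
import Mathlib.RingTheory.Unramified.LocalStructure

/-!
# Unramified finite extensions of normal domains are etale
-/

set_option autoImplicit false
set_option linter.style.haveILetI false
set_option maxHeartbeats 1000000
set_option synthInstance.maxHeartbeats 100000

universe u

open IsLocalRing
open scoped TensorProduct

namespace UnrNormalLib

/-- A prime of an etale algebra over a domain that contracts to zero contains no nonzero divisor-free part. -/
theorem eq_bot_of_etale_domain {A C : Type u} [CommRing A] [IsDomain A] [CommRing C] [Algebra A C] [Algebra.Etale A C]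
    (Q : Ideal C) [Q.IsPrime] [IsDomain (Localization.AtPrime Q)] (I : Ideal (Localization.AtPrime Q)) [I.IsPrime]
    (hI : I.comap (algebraMap A (Localization.AtPrime Q)) = ⊥) : I = ⊥ := by
  let D := Localization.AtPrime Q
  let J := I.comap (algebraMap C D)
  let Q0 := (⊥ : Ideal D).comap (algebraMap C D)
  have hJ : J.comap (algebraMap A C) = ⊥ := by rw [Ideal.comap_comap, ← IsScalarTower.algebraMap_eq, hI]
  have hle : Q0 ≤ J := Ideal.comap_mono bot_le
  have h0 : Q0.comap (algebraMap A C) = ⊥ := le_bot_iff.1 ((Ideal.comap_mono hle).trans hJ.le)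
  haveI : J.IsPrime := Ideal.comap_isPrime _ _
  haveI : Q0.IsPrime := Ideal.comap_isPrime _ _
  haveI : J.LiesOver (⊥ : Ideal A) := ⟨hJ.symm⟩
  haveI : Q0.LiesOver (⊥ : Ideal A) := ⟨h0.symm⟩
  have heq : Q0 = J := Algebra.QuasiFinite.eq_of_le_of_under_eq (R := A) Q0 J hle (by
    rw [Ideal.under_def, Ideal.under_def, h0, hJ])
  rw [← IsLocalization.map_comap Q.primeCompl D I, show I.under C = Q0 from heq.symm]
  exact le_bot_iff.1 Ideal.map_comap_le

set_option maxHeartbeats 2000000 in
/-- Localisations of an unramified extension of a normal domain are flat. -/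
theorem flat_localization {A B : Type u} [CommRing A] [IsDomain A] [IsIntegrallyClosed A] [CommRing B] [IsDomain B]
    [Algebra A B] [Algebra.FiniteType A B] [Algebra.FormallyUnramified A B] (hinj : Function.Injective (algebraMap A B))
    (q : Ideal B) [q.IsPrime] : Module.Flat A (Localization.AtPrime q) := by
  haveI : Algebra.IsUnramifiedAt A q := Algebra.FormallyUnramified.comp A B (Localization.AtPrime q)
  obtain ⟨f, hfq, P, φ, hφ⟩ := Algebra.IsUnramifiedAt.exists_hasStandardEtaleSurjectionOn (R := A) q
  let Bf := Localization.Away f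
  let Bq := Localization.AtPrime q
  have hu : IsUnit (algebraMap B Bq f) := IsLocalization.map_units Bq (⟨f, hfq⟩ : q.primeCompl)
  let lamf : Bf →ₐ[B] Bq := { IsLocalization.Away.lift f hu with commutes' := fun b => IsLocalization.Away.lift_eq f hu b }
  let ψ : P.Ring →ₐ[A] Bq := (lamf.restrictScalars A).comp φ
  let Q := (maximalIdeal Bq).comap (ψ : P.Ring →+* Bq)
  haveI : Q.IsPrime := Ideal.comap_isPrime _ _
  obtain ⟨hD, -⟩ := HenselLib.normal_localization_etale A P.Ring Q
  haveI := hD
  let D := Localization.AtPrime Q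
  have huD : ∀ s : Q.primeCompl, IsUnit (ψ s) := fun s => not_not.1 s.2
  let Ψ : D →ₐ[A] Bq := IsLocalization.liftAlgHom (M := Q.primeCompl) (f := ψ) huD
  have hΨ : ∀ c : P.Ring, Ψ (algebraMap P.Ring D c) = ψ c := fun c => IsLocalization.lift_eq _ c
  have hinjq : Function.Injective (algebraMap A Bq) := by
    rw [IsScalarTower.algebraMap_eq A B Bq]
    exact (IsLocalization.injective Bq q.primeCompl_le_nonZeroDivisors).comp hinj
  have hker : RingHom.ker (Ψ : D →+* Bq) = ⊥ := by
    haveI : IsDomain Bq := IsLocalization.isDomain_localization q.primeCompl_le_nonZeroDivisors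
    haveI : (RingHom.ker (Ψ : D →+* Bq)).IsPrime := RingHom.ker_isPrime _
    refine eq_bot_of_etale_domain (A := A) Q _ ?_
    rw [RingHom.comap_ker, AlgHom.comp_algebraMap, ← RingHom.injective_iff_ker_eq_bot]
    exact hinjq
  have hsurj : Function.Surjective Ψ := fun x => by
    obtain ⟨b, s, rfl⟩ := IsLocalization.exists_mk'_eq q.primeCompl x
    obtain ⟨c, hc⟩ := hφ (algebraMap B Bf b)
    obtain ⟨t, ht⟩ := hφ (algebraMap B Bf s)
    have hc' : ψ c = algebraMap B Bq b := by
      show lamf (φ c) = _
      rw [hc, AlgHom.commutes]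
    have ht' : ψ t = algebraMap B Bq s := by
      show lamf (φ t) = _
      rw [ht, AlgHom.commutes]
    have htQ : t ∈ Q.primeCompl := fun h => by
      have h1 : ψ t ∈ maximalIdeal Bq := h
      rw [ht'] at h1
      exact h1 (IsLocalization.map_units Bq s)
    refine ⟨IsLocalization.mk' D c ⟨t, htQ⟩, ?_⟩
    rw [IsLocalization.eq_mk'_iff_mul_eq, ← ht', ← hc', ← hΨ, ← hΨ, ← map_mul, IsLocalization.mk'_spec]
  haveI : Module.Flat P.Ring D := IsLocalization.flat D Q.primeCompl
  haveI : Module.Flat A D := Module.Flat.trans A P.Ring D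
  exact Module.Flat.of_linearEquiv (AlgEquiv.ofBijective Ψ
    ⟨(RingHom.injective_iff_ker_eq_bot (Ψ : D →+* Bq)).2 hker, hsurj⟩).toLinearEquiv.symm

/-- An unramified extension of finite type of a normal domain is etale. -/
theorem etale_of_unramified {A B : Type u} [CommRing A] [IsDomain A] [IsIntegrallyClosed A] [CommRing B] [IsDomain B]
    [Algebra A B] [Algebra.FiniteType A B] [Algebra.FormallyUnramified A B]
    (hinj : Function.Injective (algebraMap A B)) : Algebra.Etale A B := by
  haveI : Module.Flat A B :=
    Module.flat_of_isLocalized_maximal B B (fun P => Localization.AtPrime P)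
      (fun P _ => (IsScalarTower.toAlgHom B B (Localization.AtPrime P)).toLinearMap) fun P _ => flat_localization hinj P
  haveI : Algebra.FinitePresentation A B := Groth.Agent.S0406.result
  exact Algebra.Etale.of_formallyUnramified_of_flat

end UnrNormalLib
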